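import Groth.Agent.TorRegLib.Basic
import Groth.Agent.TorSESLib.Basic
import Groth.Prelude.Def_DRing2

/-! # Dimension shifting for `Tor` in the first variable -/

set_option autoImplicit false

universe u

open CategoryTheory CategoryTheory.Limits MonoidalCategory HomologicalComplex

namespace TorShiftLib

variable {R : Type u} [CommRing R]

section H0

variable {N : ModuleCat.{u} R} (P : ProjectiveResolution N)

noncomputable def aug (M : ModuleCat.{u} R) : (TorRegLib.G P M).X 0 ⟶ ((tensoringLeft (ModuleCat.{u} R)).obj M).obj N :=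
  ((tensoringLeft (ModuleCat.{u} R)).obj M).map (P.π.f 0)

theorem d_aug (M : ModuleCat.{u} R) : (TorRegLib.G P M).d 1 0 ≫ aug P M = 0 := by
  show ((tensoringLeft (ModuleCat.{u} R)).obj M).map (P.complex.d 1 0) ≫
    ((tensoringLeft (ModuleCat.{u} R)).obj M).map (P.π.f 0) = 0
  rw [← Functor.map_comp, P.complex_d_comp_π_f_zero, Functor.map_zero]

noncomputable def opToTensor (M : ModuleCat.{u} R) :
    (TorRegLib.G P M).opcycles 0 ⟶ ((tensoringLeft (ModuleCat.{u} R)).obj M).obj N :=
  (TorRegLib.G P M).descOpcycles (aug P M) 1 (by simp) (d_aug P M)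

instance isIso_opToTensor (M : ModuleCat.{u} R) : IsIso (opToTensor P M) := by
  haveI : PreservesFiniteColimits ((tensoringLeft (ModuleCat.{u} R)).obj M) := ⟨fun J _ _ =>
    ((inferInstance : PreservesColimitsOfSize.{0, 0} ((tensoringLeft (ModuleCat.{u} R)).obj M))).preservesColimitsOfShape⟩
  let h1 := (TorRegLib.G P M).opcyclesIsCokernel 1 0 (by simp)
  let h2 := isColimitCoforkMapOfIsColimit' ((tensoringLeft (ModuleCat.{u} R)).obj M) P.complex_d_comp_π_f_zero
    P.isColimitCokernelCofork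
  have h : opToTensor P M = (h1.coconePointUniqueUpToIso h2).hom := by
    rw [← cancel_epi ((TorRegLib.G P M).pOpcycles 0), opToTensor, p_descOpcycles]
    exact (h1.comp_coconePointUniqueUpToIso_hom h2 WalkingParallelPair.one).symm
  rw [h]
  infer_instance

theorem opToTensor_naturality {M M' : ModuleCat.{u} R} (f : M ⟶ M') :
    opcyclesMap (TorRegLib.Gmap P f) 0 ≫ opToTensor P M' =
      opToTensor P M ≫ ((tensoringLeft (ModuleCat.{u} R)).map f).app N := by
  rw [← cancel_epi ((TorRegLib.G P M).pOpcycles 0), p_opcyclesMap_assoc, opToTensor, p_descOpcycles,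
    opToTensor, p_descOpcycles_assoc]
  exact (((tensoringLeft (ModuleCat.{u} R)).map f).naturality (P.π.f 0)).symm

noncomputable def h0 (M : ModuleCat.{u} R) :
    (TorRegLib.G P M).homology 0 ≅ ((tensoringLeft (ModuleCat.{u} R)).obj M).obj N :=
  ChainComplex.isoHomologyι₀ _ ≪≫ asIso (opToTensor P M)

theorem h0_naturality {M M' : ModuleCat.{u} R} (f : M ⟶ M') :
    homologyMap (TorRegLib.Gmap P f) 0 ≫ (h0 P M').hom =
      (h0 P M).hom ≫ ((tensoringLeft (ModuleCat.{u} R)).map f).app N := by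
  simp only [h0, Iso.trans_hom, asIso_hom, ← Category.assoc]
  show (homologyMap _ 0 ≫ homologyι _ 0) ≫ _ = (homologyι _ 0 ≫ _) ≫ _
  rw [homologyι_naturality, Category.assoc, opToTensor_naturality, Category.assoc]

end H0

variable {X₁ X₂ X₃ : Type u} [AddCommGroup X₁] [Module R X₁] [AddCommGroup X₂] [Module R X₂] [Module.Flat R X₂]
  [AddCommGroup X₃] [Module R X₃] (f : X₁ →ₗ[R] X₂) (g : X₂ →ₗ[R] X₃) (hf : Function.Injective f)
  (hg : Function.Surjective g) (he : Function.Exact f g) (N : Type u) [AddCommGroup N] [Module R N]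

include hf hg he in
theorem exists_cx : ∃ S : ShortComplex (ModuleCat.{u} R), S.ShortExact ∧ S.X₁ = ModuleCat.of R X₁ ∧
    S = ShortComplex.moduleCatMk f g (LinearMap.ext fun x => he.apply_apply_eq_zero x) :=
  ⟨_, { exact := (ShortComplex.ShortExact.moduleCat_exact_iff_function_exact _).2 he
        mono_f := (ModuleCat.mono_iff_injective _).2 hf
        epi_g := (ModuleCat.epi_iff_surjective _).2 hg }, rfl, rfl⟩

theorem isZero_G_of_flat (M : ModuleCat.{u} R) [Module.Flat R M] (N : ModuleCat.{u} R) (P : ProjectiveResolution N)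
    (i : ℕ) (hi : 0 < i) : IsZero ((TorRegLib.G P M).homology i) :=
  (TorSESLib.isZero_tor_of_flat N M hi).of_iso (P.isoLeftDerivedObj ((tensoringLeft (ModuleCat.{u} R)).obj M) i).symm

include hf hg he in
theorem nonempty_shift_succ (r : ℕ) :
    Nonempty (DRing.Tor R (r + 2) X₃ N ≃ₗ[R] DRing.Tor R (r + 1) X₁ N) := by
  obtain ⟨S, hS, -, rfl⟩ := exists_cx f g hf hg he
  let P := projectiveResolution (ModuleCat.of R N)
  have hC := TorRegLib.cx_shortExact P _ hS
  haveI : Module.Flat R (ModuleCat.of R X₂) := ‹_›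
  have hiso := hC.isIso_δ (r + 2) (r + 1) (by simp)
    (isZero_G_of_flat (ModuleCat.of R X₂) _ P (r + 2) (by omega))
    (isZero_G_of_flat (ModuleCat.of R X₂) _ P (r + 1) (by omega))
  exact ⟨((P.isoLeftDerivedObj _ (r + 2)) ≪≫ @asIso _ _ _ _ (hC.δ (r + 2) (r + 1) (by simp)) hiso ≪≫
    (P.isoLeftDerivedObj _ (r + 1)).symm).toLinearEquiv⟩

include hf hg he in
theorem nonempty_shift_one :
    Nonempty (DRing.Tor R 1 X₃ N ≃ₗ[R] LinearMap.ker (f.rTensor N)) := by
  obtain ⟨S, hS, -, rfl⟩ := exists_cx f g hf hg he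
  let P := projectiveResolution (ModuleCat.of R N)
  have hC := TorRegLib.cx_shortExact P _ hS
  haveI : Module.Flat R (ModuleCat.of R X₂) := ‹_›
  haveI hmono : Mono (hC.δ 1 0 (by simp)) :=
    hC.mono_δ 1 0 (by simp) (isZero_G_of_flat (ModuleCat.of R X₂) _ P 1 Nat.one_pos)
  have hex := (ShortComplex.ShortExact.moduleCat_exact_iff_function_exact _).1 (hC.homology_exact₁ 1 0 (by simp))
  let δ := (hC.δ 1 0 (by simp)).hom
  let e₁ := (h0 P (ModuleCat.of R X₁)).toLinearEquiv
  let e₂ := (h0 P (ModuleCat.of R X₂)).toLinearEquiv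
  have hnat : ∀ x, f.rTensor N (e₁ x) = e₂ ((homologyMap (TorRegLib.Gmap P (ModuleCat.ofHom f)) 0).hom x) :=
    fun x => (LinearMap.congr_fun (congrArg ModuleCat.Hom.hom (h0_naturality P (ModuleCat.ofHom f))) x).symm
  let ψ : DRing.Tor R 1 X₃ N →ₗ[R] TensorProduct R X₁ N :=
    e₁.toLinearMap ∘ₗ δ ∘ₗ (P.isoLeftDerivedObj _ 1).toLinearEquiv.toLinearMap
  have hψi : Function.Injective ψ :=
    e₁.injective.comp (((ModuleCat.mono_iff_injective _).1 hmono).comp (P.isoLeftDerivedObj _ 1).toLinearEquiv.injective)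
  have hψr : LinearMap.range ψ = LinearMap.ker (f.rTensor N) := by
    ext y
    obtain ⟨x, rfl⟩ := e₁.surjective y
    rw [LinearMap.mem_ker, hnat, LinearEquiv.map_eq_zero_iff]
    constructor
    · rintro ⟨t, ht⟩
      exact (hex x).2 ⟨_, e₁.injective ht⟩
    · intro hx
      obtain ⟨t, ht⟩ := (hex x).1 hx
      refine ⟨(P.isoLeftDerivedObj _ 1).toLinearEquiv.symm t, ?_⟩
      exact congrArg e₁ ((congrArg δ ((P.isoLeftDerivedObj _ 1).toLinearEquiv.apply_symm_apply t)).trans ht)
  exact ⟨(LinearEquiv.ofInjective ψ hψi).trans (LinearEquiv.ofEq _ _ hψr)⟩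

theorem nonempty_tor_zero (M : Type u) [AddCommGroup M] [Module R M] :
    Nonempty (DRing.Tor R 0 M N ≃ₗ[R] TensorProduct R M N) :=
  let P := projectiveResolution (ModuleCat.of R N)
  ⟨(P.isoLeftDerivedObj _ 0 ≪≫ h0 P (ModuleCat.of R M)).toLinearEquiv⟩

end TorShiftLib
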